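import Mathlib

set_option autoImplicit false
universe u

namespace Groth.Agent.Lib.Helper32.ChevDVR

noncomputable def compound {R : Type u} [CommRing R] {n : ℕ} (e : ℕ)
    (a : Matrix (Fin n) (Fin n) R) :
    Matrix {S : Finset (Fin n) // S.card = e} {S : Finset (Fin n) // S.card = e} R :=
  fun S T => (a.submatrix (S.1.orderEmbOfFin S.2) (T.1.orderEmbOfFin T.2)).det

theorem compound_apply {R : Type u} [CommRing R] {n : ℕ} (e : ℕ)
    (a : Matrix (Fin n) (Fin n) R) (S T : {S : Finset (Fin n) // S.card = e}) :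
    compound e a S T = (a.submatrix (S.1.orderEmbOfFin S.2) (T.1.orderEmbOfFin T.2)).det := rfl

end Groth.Agent.Lib.Helper32.ChevDVR
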