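import Mathlib
import Groth.Agent.Lib.Helper32.ChevDVR.Defs
import Groth.Agent.Lib.Helper91.CauchyBinet

set_option autoImplicit false
universe u
open TensorProduct Matrix
open Groth.Agent.Lib.Helper32.ChevDVR

namespace Groth.Agent.Lib.Helper32.ChevDVR

variable {R : Type u} [CommRing R] {n : ℕ}

theorem det_mem_of_row_mem {e : ℕ} (M : Matrix (Fin e) (Fin e) R) (J : Ideal R) (r : Fin e)
    (hr : ∀ c, M r c ∈ J) : M.det ∈ J := by
  rw [Matrix.det_apply]
  refine Ideal.sum_mem _ (fun σ _ => ?_)
  apply Submodule.smul_of_tower_mem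
  have : M (σ (σ⁻¹ r)) (σ⁻¹ r) ∈ J := by simpa using hr (σ⁻¹ r)
  rw [← Finset.mul_prod_erase Finset.univ _ (Finset.mem_univ (σ⁻¹ r))]
  exact Ideal.mul_mem_right _ _ this

theorem det_mul_sub_mem (e : ℕ) (a : Matrix (Fin n) (Fin n) R)
    (S₀ : {S : Finset (Fin n) // S.card = e}) (L : Matrix (Fin e) (Fin n) R) :
    (L * a.submatrix id (S₀.1.orderEmbOfFin S₀.2)).det -
        (L.submatrix id (S₀.1.orderEmbOfFin S₀.2)).det * compound e a S₀ S₀ ∈
      Ideal.span {x | ∃ S, S ≠ S₀ ∧ x = compound e a S S₀} := by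
  classical
  rw [Groth.Agent.Lib.Helper91.cauchy_binet]
  rw [← Finset.add_sum_erase Finset.univ _ (Finset.mem_univ S₀)]
  have h0 : ((a.submatrix id (S₀.1.orderEmbOfFin S₀.2)).submatrix
      (S₀.1.orderEmbOfFin S₀.2) id).det = compound e a S₀ S₀ := rfl
  rw [h0, add_sub_cancel_left]
  refine Ideal.sum_mem _ (fun T hT => ?_)
  apply Ideal.mul_mem_left
  apply Ideal.subset_span
  exact ⟨T, Finset.ne_of_mem_erase hT, rfl⟩

theorem span_compound_col (e : ℕ)
    (a a' : Matrix (Fin n) (Fin n) R) (h : a' * a = 1)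
    (S₀ : {S : Finset (Fin n) // S.card = e}) (hS₀ : ∀ i : Fin n, i ∈ S₀.1 ↔ i.1 < e) :
    Ideal.span {x | ∃ S, S ≠ S₀ ∧ x = compound e a S S₀} =
      Ideal.span {x | ∃ i j : Fin n, e ≤ i.1 ∧ j.1 < e ∧ x = a i j} := by
  classical
  set o := S₀.1.orderEmbOfFin S₀.2 with ho
  have ho_mem : ∀ c, o c ∈ S₀.1 := fun c => Finset.orderEmbOfFin_mem _ _ c
  apply le_antisymm
  · rw [Ideal.span_le]
    rintro x ⟨S, hS, rfl⟩
    have hex : ∃ i ∈ S.1, i ∉ S₀.1 := by
      by_contra hcon
      push Not at hcon
      have hsub : S.1 ⊆ S₀.1 := hcon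
      have := Finset.eq_of_subset_of_card_le hsub (by rw [S.2, S₀.2])
      exact hS (Subtype.ext this)
    obtain ⟨i, hiS, hiS₀⟩ := hex
    have hi : e ≤ i.1 := by
      by_contra hlt
      exact hiS₀ ((hS₀ i).mpr (by omega))
    have hr : ∃ r, S.1.orderEmbOfFin S.2 r = i := by
      have : i ∈ Set.range (S.1.orderEmbOfFin S.2) := by
        rw [Finset.range_orderEmbOfFin]; exact hiS
      exact this
    obtain ⟨r, hr⟩ := hr
    rw [compound_apply]
    apply det_mem_of_row_mem _ _ r
    intro c
    apply Ideal.subset_span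
    refine ⟨i, o c, hi, (hS₀ _).mp (ho_mem c), ?_⟩
    simp [Matrix.submatrix_apply, hr, ho]
  · set J' := Ideal.span {x | ∃ S, S ≠ S₀ ∧ x = compound e a S S₀} with hJ'
    rw [Ideal.span_le]
    rintro x ⟨i, j, hi, hj, rfl⟩
    have hiS₀ : i ∉ S₀.1 := fun hmem => by have := (hS₀ i).mp hmem; omega
    obtain ⟨c₀, hc₀⟩ : ∃ c, o c = j := by
      have : j ∈ Set.range o := by
        rw [ho, Finset.range_orderEmbOfFin]; exact (hS₀ j).mpr hj
      exact this
    set X := compound e a S₀ S₀ with hX
    have hA : ∃ y : R, 1 - y * X ∈ J' := by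
      refine ⟨((a'.submatrix o id).submatrix id o).det, ?_⟩
      have := det_mul_sub_mem e a S₀ (a'.submatrix o id)
      have h1 : (a'.submatrix o id) * a.submatrix id o = 1 := by
        have : (a'.submatrix o id) * a.submatrix id o = (a' * a).submatrix o o := by
          ext r c
          simp [Matrix.mul_apply, Matrix.submatrix_apply]
        rw [this, h]
        ext r c
        simp [Matrix.one_apply, o.injective.eq_iff]
      rw [← ho, h1, Matrix.det_one] at this
      exact this
    obtain ⟨y, hy⟩ := hA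
    set Xm : Matrix (Fin e) (Fin e) R := a.submatrix o o with hXm
    have hXdet : Xm.det = X := rfl
    set v : Fin e → R := fun c => a i (o c) with hv
    have hB : ∀ m : Fin e, (Xm.updateRow m v).det ∈ J' := by
      intro m
      set L : Matrix (Fin e) (Fin n) R := fun r c =>
        if r = m then (if c = i then 1 else 0) else (if c = o r then 1 else 0) with hL
      have := det_mul_sub_mem e a S₀ L
      rw [← ho] at this
      have h1 : L * a.submatrix id o = Xm.updateRow m v := by
        ext r c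
        rw [Matrix.mul_apply]
        by_cases hrm : r = m
        · subst hrm
          simp [hL, Matrix.submatrix_apply, Matrix.updateRow_self, hv]
        · simp [hL, hrm, Matrix.submatrix_apply, Matrix.updateRow_ne hrm, hXm]
      have h2 : (L.submatrix id o).det = 0 := by
        apply Matrix.det_eq_zero_of_row_eq_zero m
        intro c
        have hne : o c ≠ i := fun hEq => hiS₀ (hEq ▸ ho_mem c)
        simp [hL, Matrix.submatrix_apply, hne]
      rw [h1, h2, zero_mul, sub_zero] at this
      exact this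
    have hw : ∀ m, Matrix.cramer Xmᵀ v m ∈ J' := by
      intro m
      rw [Matrix.cramer_transpose_apply]
      exact hB m
    have hmv := Matrix.mulVec_cramer Xmᵀ v
    have hXv : X * v c₀ ∈ J' := by
      have h3 := congrFun hmv c₀
      rw [Matrix.det_transpose, hXdet] at h3
      simp only [Pi.smul_apply, smul_eq_mul] at h3
      rw [← h3, Matrix.mulVec, dotProduct]
      exact Ideal.sum_mem _ (fun m _ => Ideal.mul_mem_left _ _ (hw m))
    have hfin : a i j = (1 - y * X) * a i j + y * (X * v c₀) := by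
      simp only [hv, hc₀]; ring
    rw [hfin]
    exact Ideal.add_mem _ (Ideal.mul_mem_right _ _ hy) (Ideal.mul_mem_left _ _ hXv)

end Groth.Agent.Lib.Helper32.ChevDVR
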