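import Mathlib
import Groth.Agent.Lib.Helper32.ChevDVR.Defs
import Groth.Agent.Lib.Helper69.ChevDVR1
import Groth.Agent.Lib.Helper75.ChevDVR2
import Groth.Agent.Lib.Helper77.ChevDVR4
import Groth.Agent.Lib.Helper16.ChevDVR7
import Groth.Agent.Lib.Helper32.ChevDVR.Col
import Groth.Agent.Lib.Helper77.ChevDVR3
import Groth.Agent.Lib.Helper22.ChevDVR5

set_option autoImplicit false
universe u
open TensorProduct
open Groth.Agent.Lib.Helper32.ChevDVR

namespace Groth.Agent.Lib.Helper32.ChevDVR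


theorem antipode_mul (V : Type u) [CommRing V] (A : Type u) [CommRing A] [HopfAlgebra V A]
    {n : ℕ} (a : Matrix (Fin n) (Fin n) A)
    (ha : ∀ i j, CoalgebraStruct.comul (R := V) (a i j) = ∑ l, a i l ⊗ₜ[V] a l j)
    (haε : ∀ i j, CoalgebraStruct.counit (R := V) (a i j) = if i = j then 1 else 0) :
    (a.map (HopfAlgebra.antipode V (A := A))) * a = 1 := by
  ext i j
  rw [Matrix.mul_apply]
  have h := HopfAlgebra.mul_antipode_rTensor_comul_apply (R := V) (a i j)
  rw [ha i j, map_sum, map_sum] at h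
  simp only [LinearMap.rTensor_tmul, LinearMap.mul'_apply] at h
  simp only [Matrix.map_apply]
  rw [h, haε i j, Matrix.one_apply]
  split_ifs <;> simp

theorem card_low (n e : ℕ) (he : e ≤ n) :
    (Finset.univ.filter (fun i : Fin n => i.1 < e)).card = e := by
  have := Fin.card_filter_val_lt (n := n) (m := e)
  rw [min_eq_right he] at this
  convert this using 2

theorem main (V : Type u) [CommRing V] [IsDomain V] [IsPrincipalIdealRing V]
    (A : Type u) [CommRing A] [HopfAlgebra V A] [Module.Flat V A] [Algebra.FiniteType V A]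
    (B : Type u) [CommRing B] [HopfAlgebra V B] [Module.Flat V B]
    (π : A →ₐc[V] B) :
    ∃ (d : ℕ) (hd : 0 < d) (a : Matrix (Fin d) (Fin d) A),
      (∀ i j, CoalgebraStruct.comul (R := V) (a i j) = ∑ l, a i l ⊗ₜ[V] a l j) ∧
      (∀ i j, CoalgebraStruct.counit (R := V) (a i j) = if i = j then 1 else 0) ∧
      (∃ u : A, u * a.det = 1 ∧
        Algebra.adjoin V (Set.range (fun p : Fin d × Fin d => a p.1 p.2) ∪ {u}) = ⊤) ∧
      RingHom.ker π = Ideal.span (Set.range (fun i : {i : Fin d // i ≠ ⟨0, hd⟩} => a i.1 ⟨0, hd⟩)) := by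
  classical
  haveI : IsNoetherianRing A := Algebra.FiniteType.isNoetherianRing V A
  obtain ⟨gI, hgI⟩ : (RingHom.ker π : Ideal A).FG :=
    (isNoetherianRing_iff_ideal_fg A).mp inferInstance _
  obtain ⟨gA, hgA⟩ : (⊤ : Subalgebra V A).FG := Algebra.FiniteType.out
  obtain ⟨W, hWfg, hsW, hWco⟩ := Groth.Agent.Lib.Helper69.ChevDVR1.exists_fg_subcomodule V A (gI ∪ gA)
  obtain ⟨n, e, he, b, hlow, hind⟩ :=
    Groth.Agent.Lib.Helper75.ChevDVR2.exists_adapted_basis V A B (π : A →ₐ[V] B).toLinearMap W hWfg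
  obtain ⟨a, hab, haΔ, haε, hba⟩ := Groth.Agent.Lib.Helper77.ChevDVR3.exists_matrix_coeff V A W hWco n b
  have hgen : RingHom.ker π ≤ Ideal.span ((W : Set A) ∩ RingHom.ker π) := by
    rw [← hgI]
    apply Ideal.span_mono
    intro x hx
    exact ⟨hsW (by simp [hx]), Ideal.subset_span hx⟩
  have hker := Groth.Agent.Lib.Helper77.ChevDVR4.ker_eq_span_block V A B π W n b a hab hba e hlow hind hgen
  set a' : Matrix (Fin n) (Fin n) A := a.map (HopfAlgebra.antipode V (A := A)) with ha'
  have haa' : a' * a = 1 := antipode_mul V A a haΔ haε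
  let S₀ : {S : Finset (Fin n) // S.card = e} :=
    ⟨Finset.univ.filter (fun i : Fin n => i.1 < e), card_low n e he⟩
  have hS₀ : ∀ i : Fin n, i ∈ S₀.1 ↔ i.1 < e := fun i => by simp [S₀]
  have hcol := span_compound_col e a a' haa' S₀ hS₀
  have hcc' : compound e a' * compound e a = 1 := by
    rw [← Groth.Agent.Lib.Helper22.ChevDVR5.compound_mul, haa', Groth.Agent.Lib.Helper22.ChevDVR5.compound_one]
  have hadj : Algebra.adjoin V (Set.range (fun p : Fin n × Fin n => a p.1 p.2)) = ⊤ := by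
    rw [eq_top_iff, ← hgA]
    apply Algebra.adjoin_le
    intro x hx
    have hxW : x ∈ W := hsW (by simp [hx])
    have hbj : ∀ j, (b j : A) ∈
        Algebra.adjoin V (Set.range (fun p : Fin n × Fin n => a p.1 p.2)) := by
      intro j
      rw [hba j]
      refine Subalgebra.sum_mem _ (fun i _ => Subalgebra.smul_mem _ ?_ _)
      exact Algebra.subset_adjoin ⟨(i, j), rfl⟩
    have hx' := b.sum_repr ⟨x, hxW⟩
    have hx'' : x = ∑ i, b.repr ⟨x, hxW⟩ i • (b i : A) := by
      calc x = ((⟨x, hxW⟩ : W) : A) := rfl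
        _ = ((∑ i, b.repr ⟨x, hxW⟩ i • b i : W) : A) := by rw [hx']
        _ = _ := by simp only [Submodule.coe_sum, Submodule.coe_smul]
    rw [hx'']
    exact Subalgebra.sum_mem _ (fun i _ => Subalgebra.smul_mem _ (hbj i) _)
  exact Groth.Agent.Lib.Helper16.ChevDVR7.exists_fin_matrix V A S₀ (compound e a) (compound e a') n a a'
    (Groth.Agent.Lib.Helper22.ChevDVR5.comul_compound V A e a haΔ) (Groth.Agent.Lib.Helper22.ChevDVR5.counit_compound V A e a haε) hcc' haΔ haε haa' hadj
    (RingHom.ker π) (hker.trans hcol.symm)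

end Groth.Agent.Lib.Helper32.ChevDVR
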